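import Groth.Agent.Vanish.K102.PushTwist
import Groth.Agent.Vanish.K88.Birat
import Groth.Agent.Models.H55.Pts

/-!
# The push-forward of the twisted canonical module under a birational morphism

`main`: `τ : X' ⟶ X` proper and birational between smooth integral schemes over an algebraically closed field of
characteristic zero, `D` a normal crossing divisor on `X`, `Δ` one on `X'`, `τ^{-1} D_j = ∏ Δ_c^{m_jc}`; then
`ω_X(-Σ [β_j / N] D_j) ≅ τ_* ω_{X'}(-Σ [(Σ_j β_j m_jc) / N] Δ_c)`.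
-/

set_option autoImplicit false
set_option backward.isDefEq.respectTransparency false

universe u

noncomputable section

open CategoryTheory CategoryTheory.Limits AlgebraicGeometry Opposite TopologicalSpace OmegaSh
open K583.AlgUniv K583.StalkDer K583.DerFunct K476.ExtStalk K680.FormHom K680.FormAlg
open Groth.Agent.CycB.ModStalk K475.GenStalk K680.FormMain
open Groth.Agent.Sga67.Sec Groth.Agent.Sga67.LocBasis Groth.Agent.Sga67.LocBasisStalk
open K922.Chart K419.LogRam K910.DescTop K910.SplitForm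

namespace K102.NcdPush

section Nat

variable {r : ℕ} (β m : Fin r → ℕ) {N : ℕ} (hN : 1 ≤ N)

include hN in
theorem sum_le_div : ∑ j, m j * (β j / N) ≤ (∑ j, β j * m j) / N := by
  rw [Nat.le_div_iff_mul_le hN, Finset.sum_mul]
  refine Finset.sum_le_sum fun j _ => ?_
  rw [mul_assoc, mul_comm (β j)]
  exact Nat.mul_le_mul_left _ (Nat.div_mul_le_self _ _)

include hN in
theorem div_le_sum : (∑ j, β j * m j) / N ≤ ∑ j, m j * (β j / N) + ((∑ j, m j) - 1) := by
  by_cases hM : ∑ j, m j = 0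
  · have h0 : ∀ j, m j = 0 := fun j => by
      have := Finset.sum_eq_zero_iff.1 hM j (Finset.mem_univ j)
      exact this
    have h1 : ∑ j, β j * m j = 0 := Finset.sum_eq_zero fun j _ => by rw [h0 j, mul_zero]
    rw [h1, Nat.zero_div]
    exact Nat.zero_le _
  · have hlt : (∑ j, β j * m j) / N < ∑ j, m j * (β j / N) + ∑ j, m j := by
      rw [Nat.div_lt_iff_lt_mul hN]
      have h1 : ∀ j, β j * m j + m j ≤ (m j * (β j / N) + m j) * N := by
        intro j
        have h2 := Nat.lt_div_mul_add (a := β j) (b := N) hN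
        calc β j * m j + m j = (β j + 1) * m j := by ring
          _ ≤ (β j / N * N + N) * m j := Nat.mul_le_mul_right _ h2
          _ = (m j * (β j / N) + m j) * N := by ring
      have h3 : ∑ j, (β j * m j + m j) ≤ ∑ j, (m j * (β j / N) + m j) * N :=
        Finset.sum_le_sum fun j _ => h1 j
      rw [Finset.sum_add_distrib, ← Finset.sum_mul, Finset.sum_add_distrib] at h3
      have h4 : 0 < ∑ j, m j := Nat.pos_of_ne_zero hM
      omega
    omega

end Nat

section Loc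

variable {k : Type u} [Field k] {X X₁ : Scheme.{u}} {f : X ⟶ Spec (CommRingCat.of k)}
  (π : X₁ ⟶ X) {r s : ℕ} {D : Fin r → X.IdealSheafData} {E : Fin s → X₁.IdealSheafData}

/-- The local equations of `π^{-1} D_j`. -/
theorem dvd_eqn (a : Fin s → Fin r → ℕ) (ha : ∀ j, (D j).comap π = ∏ i, E i ^ a i j)
    {U : X.affineOpens} {m : ℕ} (c : Chart f D U.1 m) {U₁ : X₁.affineOpens} {m₁ : ℕ}
    (c₁ : Chart (π ≫ f) E U₁.1 m₁) (e : U₁.1 ≤ π ⁻¹ᵁ U.1) (y : X₁) (hy : y ∈ U₁.1) (j : Fin r) :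
    π.stalkMap y (gerO (π y) (e hy) (c.g j)) ∣ ∏ i, gerO y hy (c₁.g i) ^ a i j := by
  have h1 : (D j).ideal U = Ideal.span {c.g j} := by rw [c.ideal j U le_rfl, resO_self]
  have h2 : ((D j).comap π).ideal U₁ = Ideal.span {(π.appLE U.1 U₁.1 e).hom (c.g j)} := by
    rw [Groth.Agent.Divis.IdealComap.ideal_comap _ π U U₁ e, h1, Ideal.map_span, Set.image_singleton]
  have h3 : ((D j).comap π).ideal U₁ = Ideal.span {∏ i, c₁.g i ^ a i j} := by
    rw [ha, K31.NcdRad.ideal_prod, ← Ideal.prod_span_singleton]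
    refine Finset.prod_congr rfl fun i _ => ?_
    rw [Scheme.IdealSheafData.ideal_pow, Pi.pow_apply, c₁.ideal i U₁ le_rfl, resO_self, Ideal.span_singleton_pow]
  have h4 : ∏ i, c₁.g i ^ a i j ∈ Ideal.span {(π.appLE U.1 U₁.1 e).hom (c.g j)} := by
    rw [← h2, h3]
    exact Ideal.mem_span_singleton_self _
  obtain ⟨w, hw⟩ := Ideal.mem_span_singleton.1 h4
  have h5 : π.stalkMap y (gerO (π y) (e hy) (c.g j)) = gerO y hy ((π.appLE U.1 U₁.1 e).hom (c.g j)) := by
    have h6 : gerO y hy ((π.appLE U.1 U₁.1 e).hom (c.g j)) = gerO y (e hy) (π.app U.1 (c.g j)) :=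
      gerO_res e y hy (π.app U.1 (c.g j))
    rw [h6]
    exact Scheme.Hom.germ_stalkMap_apply π U.1 y (e hy) (c.g j)
  refine ⟨gerO y hy w, ?_⟩
  rw [h5]
  have h7 := congrArg (X₁.presheaf.germ U₁.1 y hy).hom hw
  simp only [map_mul, map_prod, map_pow] at h7
  exact h7

theorem gerO_prod {Y : Scheme.{u}} {V : Y.Opens} (y : Y) (hy : y ∈ V) {ι : Type*} [Fintype ι] (g : ι → Γ(Y, V))
    (n : ι → ℕ) : gerO y hy (∏ i, g i ^ n i) = ∏ i, gerO y hy (g i) ^ n i := by
  change (Y.presheaf.germ V y hy).hom _ = ∏ i, ((Y.presheaf.germ V y hy).hom _) ^ _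
  simp only [map_prod, map_pow]

theorem prod_prod_pow {R : Type*} [CommMonoid R] (δ : Fin s → R) (a : Fin s → Fin r → ℕ) (q : Fin r → ℕ) :
    ∏ j, (∏ i, δ i ^ a i j) ^ q j = ∏ i, δ i ^ ∑ j, a i j * q j := by
  simp_rw [← Finset.prod_pow, ← pow_mul]
  rw [Finset.prod_comm]
  exact Finset.prod_congr rfl fun i _ => Finset.prod_pow_eq_pow_sum _ _ _

theorem ideal_prod_pow {Y : Scheme.{u}} {S : Scheme.{u}} {h : Y ⟶ S} {t : ℕ} {F : Fin t → Y.IdealSheafData}
    {U : Y.affineOpens} {m : ℕ} (c : Chart h F U.1 m) (n : Fin t → ℕ) :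
    (∏ i, F i ^ n i).ideal U = Ideal.span {∏ i, c.g i ^ n i} := by
  rw [K31.NcdRad.ideal_prod, ← Ideal.prod_span_singleton]
  refine Finset.prod_congr rfl fun i _ => ?_
  rw [Scheme.IdealSheafData.ideal_pow, Pi.pow_apply, c.ideal i U le_rfl, resO_self, Ideal.span_singleton_pow]

variable {Ω : X.Modules} {d : Der f Ω} {Ω₁ : X₁.Modules} {n : ℕ} {W : X.Modules} {W₁ : X₁.Modules}

theorem nonempty_loc [IsIntegral X₁] [Smooth f] [Smooth (π ≫ f)] (hd : IsUniversal d) {d₁ : Der (π ≫ f) Ω₁}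
    (hd₁ : IsUniversal d₁)
    (hr : FlatMod.IsFinLocFreeOfRank n Ω) (hr₁ : FlatMod.IsFinLocFreeOfRank n Ω₁)
    (hW : ExtPow.IsExtPow n Ω W) (hW₁ : ExtPow.IsExtPow n Ω₁ W₁)
    {J : W ⟶ (Scheme.Modules.pushforward π).obj W₁} (hJ : IsPull π (psi π hd d₁) hW hW₁ J)
    (hD : LogNCD.IsNCD D f) (hE : LogNCD.IsNCD E (π ≫ f))
    (a : Fin s → Fin r → ℕ) (ha : ∀ j, (D j).comap π = ∏ i, E i ^ a i j)
    (q : Fin r → ℕ) (p : Fin s → ℕ) (h1 : ∀ i, ∑ j, a i j * q j ≤ p i)
    (h2 : ∀ i, p i ≤ ∑ j, a i j * q j + ((∑ j, a i j) - 1)) (y : X₁) :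
    Nonempty (K102.PushTwist.Loc π J (∏ j, D j ^ q j) (∏ i, E i ^ p i) y) := by
  obtain ⟨U, m, c, hyU, -⟩ := exists_chart hD (O := ⊤) (x := π y) trivial
  obtain ⟨U₁, m₁, c₁, hyU₁, hU₁⟩ := exists_chart hE (O := π ⁻¹ᵁ U.1) (x := y) hyU
  have hG : π.stalkMap y (gerO (π y) hyU (∏ j, c.g j ^ q j)) =
      ∏ j, π.stalkMap y (gerO (π y) hyU (c.g j)) ^ q j := by
    rw [gerO_prod]
    simp only [map_prod, map_pow]
  have hP := gerO_prod y hyU₁ c₁.g p
  set δ : Fin s → X₁.presheaf.stalk y := fun i => gerO y hyU₁ (c₁.g i) with hδ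
  have hdv1 : π.stalkMap y (gerO (π y) hyU (∏ j, c.g j ^ q j)) ∣ ∏ i, δ i ^ ∑ j, a i j * q j := by
    rw [hG, ← prod_prod_pow]
    exact Finset.prod_dvd_prod_of_dvd _ _ fun j _ => pow_dvd_pow_of_dvd (dvd_eqn π a ha c c₁ hU₁ y hyU₁ j) _
  have hdv2 : ∏ i, δ i ^ ∑ j, a i j * q j ∣ π.stalkMap y (gerO (π y) hyU (∏ j, c.g j ^ q j)) := by
    rw [hG, ← prod_prod_pow]
    refine Finset.prod_dvd_prod_of_dvd _ _ fun j _ => pow_dvd_pow_of_dvd ?_ _
    obtain ⟨w, hw⟩ := exists_eqn π a ha c c₁ hU₁ y hyU₁ j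
    exact ⟨w, hw.trans (mul_comm _ _)⟩
  refine ⟨⟨U, ∏ j, c.g j ^ q j, hyU, ideal_prod_pow c q, U₁, ∏ i, c₁.g i ^ p i, hyU₁, ideal_prod_pow c₁ p, ?_, ?_⟩⟩
  · intro β
    obtain ⟨ω, hω⟩ := exists_dvd π hd hd₁ hr hr₁ hW hW₁ hJ a ha (fun i => (∑ j, a i j) - 1)
      (fun i => by omega) c c₁ hU₁ y hyU₁ β
    have hdv3 : gerO y hyU₁ (∏ i, c₁.g i ^ p i) ∣ π.stalkMap y (gerO (π y) hyU (∏ j, c.g j ^ q j)) *
        gerO y hyU₁ (∏ i, c₁.g i ^ ((∑ j, a i j) - 1)) := by
      refine Dvd.dvd.trans ?_ (mul_dvd_mul_right hdv2 _)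
      rw [hP, gerO_prod y hyU₁ c₁.g fun i => (∑ j, a i j) - 1, ← Finset.prod_mul_distrib]
      refine Finset.prod_dvd_prod_of_dvd _ _ fun i _ => ?_
      rw [← pow_add]
      exact pow_dvd_pow _ (h2 i)
    obtain ⟨z, hz⟩ := hdv3
    refine ⟨z • ω, ?_⟩
    change π.stalkMap y (gerO (π y) hyU (∏ j, c.g j ^ q j)) • pst π J y β =
      gerO y hyU₁ (∏ i, c₁.g i ^ p i) • z • ω
    rw [hω, smul_smul, smul_smul, hz]
  · refine Dvd.dvd.trans hdv1 ?_
    change _ ∣ gerO y hyU₁ (∏ i, c₁.g i ^ p i)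
    rw [hP]
    exact Finset.prod_dvd_prod_of_dvd _ _ fun i _ => pow_dvd_pow _ (h1 i)

end Loc

theorem isEff_prod_pow {X S : Scheme.{u}} {f : X ⟶ S} {r : ℕ} {D : Fin r → X.IdealSheafData}
    (hD : LogNCD.IsNCD D f) [Smooth f] (α : Fin r → ℕ) : BlowUp.IsEffCartierIdeal (∏ j, D j ^ α j) := by
  classical
  refine Finset.induction_on (motive := fun F : Finset (Fin r) =>
    BlowUp.IsEffCartierIdeal (∏ j ∈ F, D j ^ α j)) Finset.univ ?_ ?_
  · rw [Finset.prod_empty]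
    exact Groth.Agent.Divis.EffCartier.isEff_top
  · intro j F hj ih
    rw [Finset.prod_insert hj]
    exact Groth.Agent.Divis.EffCartier.isEff_mul
      (Groth.Agent.Divis.EffCartier.isEff_pow (K911.Ncd.isEff_of_isNCD hD j) _) ih

/-- The pull-back of top forms for a proper birational morphism is bijective at the generic point and surjective
over the points of codimension one. -/
theorem birat {k : Type u} [Field k] [CharZero k] {X X₁ : Scheme.{u}} (n : ℕ)
    (f : X ⟶ Spec (CommRingCat.of k)) (π : X₁ ⟶ X) [IsIntegral X] [IsIntegral X₁]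
    [QuasiSeparated f] [QuasiSeparated (π ≫ f)] [SmoothOfRelativeDimension n f]
    [SmoothOfRelativeDimension n (π ≫ f)] [IsProper π] (hη : π (genericPoint X₁) = genericPoint X)
    (hiso : IsIso (π.stalkMap (genericPoint X₁)))
    {W : X.Modules} {W₁ : X₁.Modules}
    (hW : ExtPow.IsExtPow n (Omega.sheaf f) W)
    (hW₁ : ExtPow.IsExtPow n (Omega.sheaf (π ≫ f)) W₁)
    {J : W ⟶ (Scheme.Modules.pushforward π).obj W₁}
    (hJ : IsPull π (psi π (Groth.Agent.S5005.result f) (dOmega (π ≫ f))) hW hW₁ J) :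
    Function.Bijective (pst π J (genericPoint X₁)) ∧
      ∀ x : X, IsDiscreteValuationRing (X.presheaf.stalk x) →
        ∃ y : X₁, π y = x ∧ Function.Surjective (π.stalkMap y) ∧ Function.Surjective (pst π J y) := by
  letI : X.Over (Spec (CommRingCat.of k)) := ⟨f⟩
  letI : X₁.Over (Spec (CommRingCat.of k)) := ⟨π ≫ f⟩
  have hsm : Smooth f := SmoothOfRelativeDimension.smooth n f
  have hsm₁ : Smooth (π ≫ f) := SmoothOfRelativeDimension.smooth n (π ≫ f)
  have i1 : Smooth (X ↘ Spec (CommRingCat.of k)) := hsm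
  have i2 : Smooth (X₁ ↘ Spec (CommRingCat.of k)) := hsm₁
  have i3 : SmoothOfRelativeDimension n (X ↘ Spec (CommRingCat.of k)) :=
    ‹SmoothOfRelativeDimension n f›
  have i4 : SmoothOfRelativeDimension n (X₁ ↘ Spec (CommRingCat.of k)) :=
    ‹SmoothOfRelativeDimension n (π ≫ f)›
  have h1 := K504.Hodge.topologicalKrullDim_eq (X ↘ Spec (CommRingCat.of k)) n
  have h2 := K504.Hodge.topologicalKrullDim_eq (X₁ ↘ Spec (CommRingCat.of k)) n
  have hdim := h2.trans h1.symm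
  obtain ⟨hJ1, hJ3⟩ := K910.SplitJ.props n f π hη hW hW₁ hJ
  have hWi := K455.Canon.isInvertible f n hW
  have hW₁i := K455.Canon.isInvertible (π ≫ f) n hW₁
  have hI₁ : Inj W₁ := inj_of_isInvertible hW₁i
  refine ⟨⟨?_, ?_⟩, ?_⟩
  · rw [injective_iff_map_eq_zero]
    intro m hm
    obtain ⟨U, hU, s, rfl⟩ := TopCat.Presheaf.exists_germ_eq _ m
    rw [pst_germ] at hm
    by_cases hs : s = 0
    · rw [hs, map_zero]
    · exact absurd hm (hJ1 U s hs hU)
  · obtain ⟨m, hm⟩ := exists_isGen hWi (π (genericPoint X₁))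
    obtain ⟨t, ht⟩ := exists_isGen hW₁i (genericPoint X₁)
    have hm0 : pst π J (genericPoint X₁) m ≠ 0 := by
      obtain ⟨U, hU, s, rfl⟩ := TopCat.Presheaf.exists_germ_eq _ m
      rw [pst_germ]
      refine hJ1 U s ?_ hU
      rintro rfl
      have h3 : (1 : X.presheaf.stalk (π (genericPoint X₁))) = 0 := by
        apply hm.1
        change (1 : X.presheaf.stalk (π (genericPoint X₁))) • _ = (0 : X.presheaf.stalk (π (genericPoint X₁))) • _
        rw [map_zero, smul_zero, smul_zero]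
      exact one_ne_zero h3
    intro ω
    obtain ⟨c, hc⟩ := ht.2 (pst π J (genericPoint X₁) m)
    obtain ⟨c', hc'⟩ := ht.2 ω
    change (c : X₁.presheaf.stalk (genericPoint X₁)) • t = _ at hc
    change (c' : X₁.presheaf.stalk (genericPoint X₁)) • t = _ at hc'
    have hc0 : (c : X₁.functionField) ≠ 0 := by
      intro h0
      apply hm0
      rw [← hc, show (c : X₁.presheaf.stalk (genericPoint X₁)) = 0 from h0, zero_smul]
    obtain ⟨b, hb⟩ := ((ConcreteCategory.isIso_iff_bijective _).1 hiso).2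
      ((c' : X₁.functionField) / (c : X₁.functionField) : X₁.functionField)
    refine ⟨b • m, ?_⟩
    rw [pst_smul, ← hc, ← hc', smul_smul]
    congr 1
    refine (congrArg (· * c) hb).trans ?_
    exact div_mul_cancel₀ (c' : X₁.functionField) hc0
  · intro x hx
    obtain ⟨y, rfl, hy, -⟩ := Groth.Agent.Models.H55.Pts.exists_pt π hη hiso x
    have hb := (ConcreteCategory.isIso_iff_bijective _).1 hy
    refine ⟨y, rfl, hb.2, fun ω => ?_⟩
    have hx1 : ringKrullDim (X.presheaf.stalk (π y)) = 1 :=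
      ((Groth.Agent.S0549.dvr_iff (X.presheaf.stalk (π y))).mp ⟨inferInstance, hx⟩).2
    have hyd : IsDiscreteValuationRing (X₁.presheaf.stalk y) :=
      isDVR (Groth.Agent.S1535.result k X₁ y) (K562.DimF.ringKrullDim_stalk_eq_one k π rfl hdim hη hx1)
    obtain ⟨t, ht⟩ := IsDiscreteValuationRing.exists_irreducible (X.presheaf.stalk (π y))
    obtain ⟨m, hm⟩ := exists_isGen hWi (π y)
    obtain ⟨a, ha, haω⟩ := hJ3 y hyd hx (K910.SplitJ.resAlg k π rfl hdim hη hx1) t ht m hm ω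
    obtain ⟨a', rfl⟩ := hb.2 a
    have ha' : a' ∈ IsLocalRing.maximalIdeal (X.presheaf.stalk (π y)) := by
      rw [IsLocalRing.mem_maximalIdeal, mem_nonunits_iff] at ha ⊢
      exact fun h => ha (h.map (π.stalkMap y).hom)
    rw [ht.maximalIdeal_eq, Ideal.mem_span_singleton] at ha'
    obtain ⟨b, rfl⟩ := ha'
    refine ⟨b • m, ?_⟩
    rw [pst_smul]
    have ht0 : π.stalkMap y t ≠ 0 := by
      intro h0
      exact ht.ne_zero (hb.1 (h0.trans (map_zero _).symm))
    have htf := isTorsionFree_of_inj hI₁ y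
    have hreg := htf.isSMulRegular (IsRegular.of_ne_zero ht0)
    apply hreg
    change π.stalkMap y t • _ = π.stalkMap y t • ω
    rw [haω, smul_smul, ← map_mul]

/-- **The push-forward of the twisted canonical module under a birational morphism.** -/
theorem main_isPull {k : Type u} [Field k] [CharZero k] (n : ℕ) {X X' : Scheme.{u}}
    (f : X ⟶ Spec (CommRingCat.of k)) (τ : X' ⟶ X) [IsIntegral X] [IsIntegral X']
    [QuasiSeparated f] [QuasiSeparated (τ ≫ f)]
    [SmoothOfRelativeDimension n f] [SmoothOfRelativeDimension n (τ ≫ f)] [IsProper τ]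
    (hbir : RadPt.IsBirational τ)
    {W : X.Modules} (hW : ExtPow.IsExtPow n (Omega.sheaf f) W)
    {W₁ : X'.Modules} (hW₁ : ExtPow.IsExtPow n (Omega.sheaf (τ ≫ f)) W₁)
    {J : W ⟶ (Scheme.Modules.pushforward τ).obj W₁}
    (hJ : IsPull τ (psi τ (Groth.Agent.S5005.result f) (dOmega (τ ≫ f))) hW hW₁ J)
    {r : ℕ} (D : Fin r → X.IdealSheafData) (hD : LogNCD.IsNCD D f)
    {s : ℕ} (Δ : Fin s → X'.IdealSheafData) (hΔ : LogNCD.IsNCD Δ (τ ≫ f))
    (m : Fin r → Fin s → ℕ) (hm : ∀ j, (D j).comap τ = ∏ c, Δ c ^ m j c)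
    (q : Fin r → ℕ) (p : Fin s → ℕ) (h1 : ∀ c, ∑ j, m j c * q j ≤ p c)
    (h2 : ∀ c, p c ≤ ∑ j, m j c * q j + ((∑ j, m j c) - 1)) :
    ∃ e : CohB1.tensorMod W (ClSub.idealMod (∏ j, D j ^ q j)) ⟶
        (Scheme.Modules.pushforward τ).obj (CohB1.tensorMod W₁ (ClSub.idealMod (∏ c, Δ c ^ p c))),
      IsIso e ∧ e ≫ (Scheme.Modules.pushforward τ).map (LogNCD.inclTwist W₁ (∏ c, Δ c ^ p c)) =
        LogNCD.inclTwist W (∏ j, D j ^ q j) ≫ J := by
  letI : X.Over (Spec (CommRingCat.of k)) := ⟨f⟩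
  have hsm : Smooth f := SmoothOfRelativeDimension.smooth n f
  have hsm₁ : Smooth (τ ≫ f) := SmoothOfRelativeDimension.smooth n (τ ≫ f)
  have i1 : Smooth (X ↘ Spec (CommRingCat.of k)) := hsm
  have hNoeth : IsLocallyNoetherian X :=
    LocallyOfFiniteType.isLocallyNoetherian f
  have hNX : ∀ x : X, IsIntegrallyClosed (X.presheaf.stalk x) := fun x =>
    (isNormal (fun x => Groth.Agent.S1535.result k X x) x).2
  have hη := K88.Birat.gen_of_birational hbir
  have hiso := K88.Birat.isIso_stalkMap_of_birational hbir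
  obtain ⟨hb1, hb2⟩ := birat n f τ hη hiso hW hW₁ hJ
  exact K102.PushTwist.exists_isIso hNX hη (K455.Canon.isInvertible f n hW)
    (K455.Canon.isInvertible (τ ≫ f) n hW₁) (isEff_prod_pow hD q) (isEff_prod_pow hΔ p)
    (nonempty_loc τ (Groth.Agent.S5005.result f) (Groth.Agent.S5005.result (τ ≫ f))
      (Groth.Agent.Dual.H339.OmegaRank.isFinLocFreeOfRank_omega n f)
      (Groth.Agent.Dual.H339.OmegaRank.isFinLocFreeOfRank_omega n (τ ≫ f)) hW hW₁ hJ hD hΔ
      (fun c j => m j c) hm q p h1 h2) hb1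
    ((ConcreteCategory.isIso_iff_bijective _).1 hiso).2 hb2

/-- **The push-forward of the twisted canonical module under a birational morphism.** -/
theorem main {k : Type u} [Field k] [CharZero k] (n : ℕ) {X X' : Scheme.{u}}
    (f : X ⟶ Spec (CommRingCat.of k)) (τ : X' ⟶ X) [IsIntegral X] [IsIntegral X']
    [QuasiSeparated f]
    [SmoothOfRelativeDimension n f] [SmoothOfRelativeDimension n (τ ≫ f)] [IsProper τ]
    (hbir : RadPt.IsBirational τ)
    {W : X.Modules} (hW : ExtPow.IsExtPow n (Omega.sheaf f) W)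
    {W₁ : X'.Modules} (hW₁ : ExtPow.IsExtPow n (Omega.sheaf (τ ≫ f)) W₁)
    {r : ℕ} (D : Fin r → X.IdealSheafData) (hD : LogNCD.IsNCD D f)
    {s : ℕ} (Δ : Fin s → X'.IdealSheafData) (hΔ : LogNCD.IsNCD Δ (τ ≫ f))
    (m : Fin r → Fin s → ℕ) (hm : ∀ j, (D j).comap τ = ∏ c, Δ c ^ m j c)
    (N : ℕ) (hN : 1 ≤ N) (β : Fin r → ℕ) :
    ∃ e : CohB1.tensorMod W (ClSub.idealMod (∏ j, D j ^ (β j / N))) ⟶
      (Scheme.Modules.pushforward τ).obj
        (CohB1.tensorMod W₁ (ClSub.idealMod (∏ c, Δ c ^ ((∑ j, β j * m j c) / N)))), IsIso e := by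
  obtain ⟨J, hJ⟩ := K910.SplitJ.exists_J n f τ hW hW₁
  obtain ⟨e, he, -⟩ := main_isPull n f τ hbir hW hW₁ hJ D hD Δ hΔ m hm (fun j => β j / N)
    (fun c => (∑ j, β j * m j c) / N) (fun c => sum_le_div β (fun j => m j c) hN)
    (fun c => div_le_sum β (fun j => m j c) hN)
  exact ⟨e, he⟩

end K102.NcdPush
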