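import Groth.Agent.Vanish.K910.Split
import Groth.Agent.Vanish.K660.SubTw

/-!
# A criterion for a morphism of invertible modules `A ⟶ π_* A₁` to be an isomorphism

`isIso_of_codim_one`: `π : X₁ ⟶ X` dominant, `X` normal, `A`, `A₁` invertible, `e : A ⟶ π_* A₁`
bijective on generic stalks and such that over every point `x` of codimension one of `X` there is
a point `y` of `X₁` with `A_x → A₁_y` surjective; then `e` is an isomorphism.
-/

set_option autoImplicit false
set_option backward.isDefEq.respectTransparency false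

universe u

noncomputable section

open CategoryTheory CategoryTheory.Limits AlgebraicGeometry Opposite TopologicalSpace
open Groth.Agent.Sga67.Sec K680.FormHom K475.GenStalk Groth.Agent.CycB.ModStalk
open K476.ExtStalk (germ_res germ_resO)
open K910.DescTop

namespace K102.PushIso

section Pst

variable {X X₁ : Scheme.{u}} (π : X₁ ⟶ X)

theorem pst_spec {A : X.Modules} {A₁ : X₁.Modules} (e : A ⟶ (Scheme.Modules.pushforward π).obj A₁)
    {y y' : X₁} (h : y' ⤳ y) (m : A.presheaf.stalk (π y)) :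
    A₁.presheaf.stalkSpecializes h (pst π e y m) =
      pst π e y' (A.presheaf.stalkSpecializes (h.map π.continuous) m) := by
  obtain ⟨U, hx, s, rfl⟩ := TopCat.Presheaf.exists_germ_eq A.presheaf m
  have h1 : A.presheaf.stalkSpecializes (h.map π.continuous) (A.presheaf.germ U (π y) hx s) =
      A.presheaf.germ U (π y') ((h.map π.continuous).mem_open U.2 hx) s :=
    TopCat.Presheaf.germ_stalkSpecializes_apply A.presheaf hx (h.map π.continuous) s
  rw [h1, pst_germ, pst_germ]
  exact TopCat.Presheaf.germ_stalkSpecializes_apply A₁.presheaf _ h (im π e s)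

theorem pst_comp_left {A W : X.Modules} {W₁ : X₁.Modules} (i : A ⟶ W)
    (J : W ⟶ (Scheme.Modules.pushforward π).obj W₁) (y : X₁) (m : A.presheaf.stalk (π y)) :
    pst π (i ≫ J) y m = pst π J y (RefHull.stalkMapₗ i (π y) m) := by
  obtain ⟨U, hx, s, rfl⟩ := TopCat.Presheaf.exists_germ_eq A.presheaf m
  rw [RefHull.stalkMapₗ_germ, pst_germ, pst_germ]
  rfl

theorem pst_comp_right {A : X.Modules} {A₁ W₁ : X₁.Modules}
    (e : A ⟶ (Scheme.Modules.pushforward π).obj A₁) (i : A₁ ⟶ W₁) (y : X₁)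
    (m : A.presheaf.stalk (π y)) :
    pst π (e ≫ (Scheme.Modules.pushforward π).map i) y m = RefHull.stalkMapₗ i y (pst π e y m) := by
  obtain ⟨U, hx, s, rfl⟩ := TopCat.Presheaf.exists_germ_eq A.presheaf m
  rw [pst_germ, pst_germ, RefHull.stalkMapₗ_germ]
  rfl

end Pst

section Crit

variable {X X₁ : Scheme.{u}} (π : X₁ ⟶ X) [IsIntegral X] [IsIntegral X₁]

theorem isIso_of_codim_one [IsLocallyNoetherian X]
    (hN : ∀ x : X, IsIntegrallyClosed (X.presheaf.stalk x))
    (hη : π (genericPoint X₁) = genericPoint X)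
    {A : X.Modules} {A₁ : X₁.Modules} (hA : PicF.IsInvertible A) (hA₁ : PicF.IsInvertible A₁)
    (e : A ⟶ (Scheme.Modules.pushforward π).obj A₁)
    (h1 : Function.Bijective (pst π e (η X₁)))
    (h2 : ∀ x : X, IsDiscreteValuationRing (X.presheaf.stalk x) →
      ∃ y : X₁, π y = x ∧ Function.Surjective (pst π e y)) : IsIso e := by
  have hI : Inj A := inj_of_isInvertible hA
  have hI₁ : Inj A₁ := inj_of_isInvertible hA₁
  have hpre : ∀ {V : X.Opens}, η X ∈ V → η X₁ ∈ π ⁻¹ᵁ V := by
    intro V h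
    change π (η X₁) ∈ V
    rw [hη]
    exact h
  apply Groth.Agent.Sga67.LocBasis.isIso_of_bijective
  intro x₀ U hx₀
  refine ⟨U, le_rfl, hx₀, ?_, ?_⟩
  · intro s t hst
    have hst' : im π e s = im π e t := hst
    refine section_ext (U := U) hI (fun hηU => ?_)
    have hη' : π (η X₁) ∈ U := hpre hηU
    have h3 : A.presheaf.germ U (π (η X₁)) hη' s = A.presheaf.germ U (π (η X₁)) hη' t := by
      apply h1.1
      rw [pst_germ, pst_germ, hst']
    have h4 := congrArg (A.presheaf.stalkSpecializes (spec (π (η X₁)))) h3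
    rw [germ_spec, germ_spec] at h4
    exact h4
  · intro w
    have hηU : η X ∈ U := mem_of_nonempty hx₀
    have hη₁ : η X₁ ∈ π ⁻¹ᵁ U := hpre hηU
    let w' : Sec A₁ (π ⁻¹ᵁ U) := w
    obtain ⟨v, hv⟩ := h1.2 (A₁.presheaf.germ (π ⁻¹ᵁ U) (η X₁) hη₁ w')
    -- the section
    obtain ⟨s, hs⟩ := exists_section hI U (A.presheaf.stalkSpecializes (spec (π (η X₁))) v) (by
      intro x hx
      refine K910.Split.mem_range_of_codim_one hN hA (fun x' hx' hd' => ?_)
      obtain ⟨y, rfl, hy⟩ := h2 x' hd'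
      have hyU : y ∈ π ⁻¹ᵁ U := hx'.mem_open U.2 hx
      obtain ⟨z, hz⟩ := hy (A₁.presheaf.germ (π ⁻¹ᵁ U) y hyU w')
      refine ⟨z, ?_⟩
      have h3 : A.presheaf.stalkSpecializes ((spec y).map π.continuous) z = v := by
        apply h1.1
        rw [← pst_spec, hz, hv]
        exact germ_spec A₁ y hyU w'
      rw [← h3, spec_spec])
    refine ⟨s, ?_⟩
    have h4 : im π e s = w' := by
      refine section_ext hI₁ (fun hη' => ?_)
      rw [← pst_germ π e (η X₁) U hη' s, ← hv]
      congr 1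
      apply hI (π (η X₁))
      rw [germ_spec]
      exact hs _
    exact h4

end Crit

section Incl

variable {X : Scheme.{u}} {E : X.Modules} (hE : FlatMod.IsFinLocFree E) (I : X.IdealSheafData)

include hE in
theorem inclTwist_stalk_injective (x : X) :
    Function.Injective (RefHull.stalkMapₗ (LogNCD.inclTwist E I) x) := by
  rw [injective_iff_map_eq_zero]
  intro m hm
  obtain ⟨U, hx, s, rfl⟩ := TopCat.Presheaf.exists_germ_eq _ m
  rw [RefHull.stalkMapₗ_germ] at hm
  obtain ⟨V, hxV, i1, i2, h⟩ := TopCat.Presheaf.germ_eq _ x hx hx _ 0 (hm.trans (map_zero _).symm)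
  have hV : V ≤ U := leOfHom i1
  have h1 : appS (LogNCD.inclTwist E I) V (res _ hV s) = 0 := by
    rw [appS_res]
    refine Eq.trans h ?_
    rw [map_zero]
  have h2 : res (CohB1.tensorMod E (ClSub.idealMod I)) hV s = 0 :=
    K913.TauAff.inclTwist_injective I hE V (h1.trans (map_zero _).symm)
  rw [← germ_res _ hV hxV, h2, map_zero]

include hE in
theorem range_inclTwist_stalk (x : X) {U : X.affineOpens} (G : Γ(X, U.1))
    (hG : I.ideal U = Ideal.span {G}) (hx : x ∈ U.1) (v : E.presheaf.stalk x) :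
    (∃ z, RefHull.stalkMapₗ (LogNCD.inclTwist E I) x z = v) ↔
      ∃ v' : E.presheaf.stalk x, v = X.presheaf.germ U.1 x hx G • v' := by
  constructor
  · rintro ⟨z, rfl⟩
    obtain ⟨O, hO, s, rfl⟩ := TopCat.Presheaf.exists_germ_eq _ z
    obtain ⟨V, hxV, hV⟩ := K660.SubTw.exists_affine_le x (O ⊓ U.1) ⟨hO, hx⟩
    have hVO : V.1 ≤ O := hV.trans inf_le_left
    have hVU : V.1 ≤ U.1 := hV.trans inf_le_right
    obtain ⟨e', he'⟩ := (K913.TauAff.range_inclTwist I hE V _ (K660.SubTw.ideal_resO I hVU G hG)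
      (appS (LogNCD.inclTwist E I) V.1 (res _ hVO s))).1 ⟨_, rfl⟩
    refine ⟨E.presheaf.germ V.1 x hxV e', ?_⟩
    rw [← germ_resO hVU hxV G, ← germ_smul, ← he', ← germ_res _ hVO hxV s, RefHull.stalkMapₗ_germ]
    rfl
  · rintro ⟨v', rfl⟩
    obtain ⟨O, hO, e', rfl⟩ := TopCat.Presheaf.exists_germ_eq _ v'
    obtain ⟨V, hxV, hV⟩ := K660.SubTw.exists_affine_le x (O ⊓ U.1) ⟨hO, hx⟩
    have hVO : V.1 ≤ O := hV.trans inf_le_left
    have hVU : V.1 ≤ U.1 := hV.trans inf_le_right
    obtain ⟨s, hs⟩ := (K913.TauAff.range_inclTwist I hE V _ (K660.SubTw.ideal_resO I hVU G hG)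
      (resO X hVU G • res E hVO e')).2 ⟨_, rfl⟩
    refine ⟨(CohB1.tensorMod E (ClSub.idealMod I)).presheaf.germ V.1 x hxV s, ?_⟩
    rw [RefHull.stalkMapₗ_germ, ← germ_resO hVU hxV G, ← germ_res E hVO hxV e', ← germ_smul, ← hs]
    rfl

end Incl

end K102.PushIso
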