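import Groth.Agent.Vanish.K102.PushIso
import Groth.Agent.Vanish.K419.LogRamMain
import Groth.Agent.LogNCD.K913.Main
import Groth.Agent.SDiv.K476.HomSh1
import Groth.Agent.Fdesc.LocGenTensor
import Groth.Agent.Dix.IdealModCartier

/-!
# The push-forward of a twisted invertible module

`exists_isIso`: `W`, `W₁` invertible, `J : W ⟶ π_* W₁` with `I J(W) ⊆ I₁ W₁`, `I₁ ⊆ I O_{X₁}`, `J` an isomorphism
over the points of codimension one; then `W ⊗ I ≅ π_*(W₁ ⊗ I₁)`.
-/

set_option autoImplicit false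
set_option backward.isDefEq.respectTransparency false

universe u

noncomputable section

open CategoryTheory CategoryTheory.Limits AlgebraicGeometry Opposite TopologicalSpace
open Groth.Agent.Sga67.Sec K680.FormHom K475.GenStalk Groth.Agent.CycB.ModStalk
open K476.ExtStalk (germ_res germ_resO)
open K910.DescTop K102.PushIso

namespace K102.PushTwist

variable {X X₁ : Scheme.{u}} (π : X₁ ⟶ X) {W : X.Modules} {W₁ : X₁.Modules}
  (J : W ⟶ (Scheme.Modules.pushforward π).obj W₁) (I : X.IdealSheafData) (I₁ : X₁.IdealSheafData)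

/-- The local conditions at `y`. -/
structure Loc (y : X₁) where
  U : X.affineOpens
  G : Γ(X, U.1)
  hU : π y ∈ U.1
  hG : I.ideal U = Ideal.span {G}
  U₁ : X₁.affineOpens
  P : Γ(X₁, U₁.1)
  hU₁ : y ∈ U₁.1
  hP : I₁.ideal U₁ = Ideal.span {P}
  fac : ∀ m : W.presheaf.stalk (π y), ∃ ω : W₁.presheaf.stalk y,
    π.stalkMap y (X.presheaf.germ U.1 (π y) hU G) • pst π J y m = X₁.presheaf.germ U₁.1 y hU₁ P • ω
  dvd : π.stalkMap y (X.presheaf.germ U.1 (π y) hU G) ∣ X₁.presheaf.germ U₁.1 y hU₁ P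

variable {π J I I₁} (hW : FlatMod.IsFinLocFree W) (hW₁ : FlatMod.IsFinLocFree W₁)

include hW hW₁ in
theorem exists_lift (hloc : ∀ y : X₁, Nonempty (Loc π J I I₁ y)) :
    ∃ e : CohB1.tensorMod W (ClSub.idealMod I) ⟶
        (Scheme.Modules.pushforward π).obj (CohB1.tensorMod W₁ (ClSub.idealMod I₁)),
      e ≫ (Scheme.Modules.pushforward π).map (LogNCD.inclTwist W₁ I₁) = LogNCD.inclTwist W I ≫ J := by
  have := K913.TauAff.mono_inclTwist I₁ hW₁
  apply K419.LogRamMain.exists_lift_pushforward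
  apply Groth.Agent.Sga67.Sec.hom_ext
  intro U t
  rw [appS_zero]
  refine Groth.Agent.Divis.ReflexExtend.eq_zero_of_germ (cokernel (LogNCD.inclTwist W₁ I₁))
    (U := π ⁻¹ᵁ U) _ (fun y hy => ?_)
  obtain ⟨L⟩ := hloc y
  have h1 := pst_germ π ((LogNCD.inclTwist W I ≫ J) ≫
    (Scheme.Modules.pushforward π).map (cokernel.π (LogNCD.inclTwist W₁ I₁))) y U hy t
  refine Eq.trans h1.symm ?_
  rw [pst_comp_right, pst_comp_left]
  obtain ⟨v', hv'⟩ := (range_inclTwist_stalk hW I (π y) L.G L.hG L.hU _).1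
    ⟨(CohB1.tensorMod W (ClSub.idealMod I)).presheaf.germ U (π y) hy t, rfl⟩
  rw [hv', pst_smul]
  obtain ⟨ω, hω⟩ := L.fac v'
  rw [hω]
  obtain ⟨z, hz⟩ := (range_inclTwist_stalk hW₁ I₁ y L.P L.hP L.hU₁ _).2 ⟨ω, rfl⟩
  rw [← hz]
  have h2 := LinearMap.congr_fun (K476.HomSh1.stalkMapₗ_comp (LogNCD.inclTwist W₁ I₁)
    (cokernel.π (LogNCD.inclTwist W₁ I₁)) y) z
  rw [cokernel.condition] at h2
  refine Eq.trans h2.symm ?_
  obtain ⟨V, hV, s, rfl⟩ := TopCat.Presheaf.exists_germ_eq _ z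
  rw [RefHull.stalkMapₗ_germ]
  exact map_zero _

variable {e : CohB1.tensorMod W (ClSub.idealMod I) ⟶
    (Scheme.Modules.pushforward π).obj (CohB1.tensorMod W₁ (ClSub.idealMod I₁))}
  (he : e ≫ (Scheme.Modules.pushforward π).map (LogNCD.inclTwist W₁ I₁) = LogNCD.inclTwist W I ≫ J)

include he in
theorem pst_e (y : X₁) (z : (CohB1.tensorMod W (ClSub.idealMod I)).presheaf.stalk (π y)) :
    RefHull.stalkMapₗ (LogNCD.inclTwist W₁ I₁) y (pst π e y z) =
      pst π J y (RefHull.stalkMapₗ (LogNCD.inclTwist W I) (π y) z) := by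
  rw [← pst_comp_right, ← pst_comp_left, he]

include he hW in
theorem injective_pst {y : X₁} (hJ : Function.Injective (pst π J y)) : Function.Injective (pst π e y) := by
  intro z z' h
  apply inclTwist_stalk_injective hW I (π y)
  apply hJ
  rw [← pst_e he, ← pst_e he, h]

include he hW hW₁ in
theorem surjective_pst {y : X₁} (L : Loc π J I I₁ y) (hs : Function.Surjective (π.stalkMap y))
    (hJ : Function.Surjective (pst π J y)) : Function.Surjective (pst π e y) := by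
  intro u
  obtain ⟨v₁, hv₁⟩ := (range_inclTwist_stalk hW₁ I₁ y L.P L.hP L.hU₁ _).1 ⟨u, rfl⟩
  obtain ⟨w₁, rfl⟩ := hJ v₁
  obtain ⟨b, hb⟩ := L.dvd
  obtain ⟨a, rfl⟩ := hs b
  obtain ⟨z, hz⟩ := (range_inclTwist_stalk hW I (π y) L.G L.hG L.hU _).2 ⟨a • w₁, rfl⟩
  refine ⟨z, ?_⟩
  apply inclTwist_stalk_injective hW₁ I₁ y
  rw [pst_e he, hz, hv₁, hb, pst_smul, pst_smul, smul_smul]

/-- **The push-forward of a twisted invertible module.** -/
theorem exists_isIso [IsIntegral X] [IsIntegral X₁] [IsLocallyNoetherian X]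
    (hN : ∀ x : X, IsIntegrallyClosed (X.presheaf.stalk x))
    (hη : π (genericPoint X₁) = genericPoint X) (hWi : PicF.IsInvertible W) (hW₁i : PicF.IsInvertible W₁)
    (hI : BlowUp.IsEffCartierIdeal I) (hI₁ : BlowUp.IsEffCartierIdeal I₁)
    (hloc : ∀ y : X₁, Nonempty (Loc π J I I₁ y))
    (hJη : Function.Bijective (pst π J (genericPoint X₁)))
    (hsη : Function.Surjective (π.stalkMap (genericPoint X₁)))
    (hcod : ∀ x : X, IsDiscreteValuationRing (X.presheaf.stalk x) →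
      ∃ y : X₁, π y = x ∧ Function.Surjective (π.stalkMap y) ∧ Function.Surjective (pst π J y)) :
    ∃ e : CohB1.tensorMod W (ClSub.idealMod I) ⟶
        (Scheme.Modules.pushforward π).obj (CohB1.tensorMod W₁ (ClSub.idealMod I₁)),
      IsIso e ∧
      e ≫ (Scheme.Modules.pushforward π).map (LogNCD.inclTwist W₁ I₁) = LogNCD.inclTwist W I ≫ J := by
  have hW := K913.Main.isFinLocFree_of_isInvertible hWi
  have hW₁ := K913.Main.isFinLocFree_of_isInvertible hW₁i
  obtain ⟨e, he⟩ := exists_lift hW hW₁ hloc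
  refine ⟨e, ?_, he⟩
  refine isIso_of_codim_one π hN hη
    (Groth.Agent.Fdesc.LocGen.isInvertible_tensorMod hWi
      (Groth.Agent.Dix.IdealModCartier.isInvertible_idealMod hI))
    (Groth.Agent.Fdesc.LocGen.isInvertible_tensorMod hW₁i
      (Groth.Agent.Dix.IdealModCartier.isInvertible_idealMod hI₁)) e
    ⟨injective_pst hW he hJη.1, ?_⟩ (fun x hx => ?_)
  · obtain ⟨L⟩ := hloc (genericPoint X₁)
    exact surjective_pst hW hW₁ he L hsη hJη.2
  · obtain ⟨y, hy, h1, h2⟩ := hcod x hx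
    obtain ⟨L⟩ := hloc y
    exact ⟨y, hy, surjective_pst hW hW₁ he L h1 h2⟩

end K102.PushTwist
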